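import Groth.Agent.H11Ample.HQProj
import Groth.Agent.H11Ample.RelComp
import Groth.Agent.H11Ample.RelPullback
import Groth.Agent.H11Ample.RelQuasiAffine
import Groth.Agent.H11Ample.ImmersionPn
import Groth.Agent.H11Proj.ProjTransfer
import Groth.Agent.H11Proj.ProperQProj
import Groth.Agent.H11Proj.HProj

/-! Locally (quasi-)projective morphisms. -/

set_option autoImplicit false
set_option linter.style.haveILetI false
noncomputable section
universe u
open CategoryTheory CategoryTheory.Limits AlgebraicGeometry TopologicalSpace CohB1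
open Groth.Agent.H11Ample

namespace Groth.Agent.H17.LocalProj

variable {X X' S S' : Scheme.{u}} {f : X ⟶ S} {g : S' ⟶ S} {f' : X' ⟶ S'} {h : X' ⟶ X}

theorem exists_isPullback_le (f : X ⟶ S) {U V : S.Opens} (e : V ≤ U) :
    ∃ h : (↑(f ⁻¹ᵁ V) : Scheme.{u}) ⟶ ↑(f ⁻¹ᵁ U), IsPullback h (f ∣_ V) (f ∣_ U) (S.homOfLE e) := by
  have hsq := isPullback_morphismRestrict f V
  have hR := (isPullback_morphismRestrict f U).flip
  refine ⟨X.homOfLE (f.preimage_mono e), IsPullback.of_right (t := hR) ?_ ?_⟩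
  · rw [Scheme.homOfLE_ι, Scheme.homOfLE_ι]
    exact hsq.flip
  · exact (cancel_mono U.ι).1 (by simp)

theorem isProjective_of_isPullback (H : IsPullback h f' f g) (hf : RelProj.IsProjective f) :
    RelProj.IsProjective f' := by
  refine H11Proj.isProjective_of_isClosedImmersion_lift (g := g) (h := h) H.w.symm hf ?_
  have e : (pullback.lift h f' H.w : X' ⟶ pullback f g) = H.isoPullback.hom :=
    pullback.hom_ext ((pullback.lift_fst _ _ _).trans H.isoPullback_hom_fst.symm)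
      ((pullback.lift_snd _ _ _).trans H.isoPullback_hom_snd.symm)
  rw [e]
  infer_instance

theorem isRelAmple_of_iso {L M : X.Modules} (e : L ≅ M) (hL : RelAmple.IsRelAmple f L) :
    RelAmple.IsRelAmple f M := by
  obtain ⟨hq, hL⟩ := isRelAmple_iff.1 hL
  exact isRelAmple_iff.2 ⟨hq, fun V hV => isAmple_of_iso ((Scheme.Modules.pullback _).mapIso e) (hL V hV)⟩

theorem exists_isRelAmple_of_isPullback (H : IsPullback h f' f g) {L : X.Modules}
    (hL : RelAmple.IsRelAmple f L) : ∃ M : X'.Modules, RelAmple.IsRelAmple f' M := by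
  haveI := hL.1
  have hq : Mor2.IsQuasiAffine H.isoPullback.hom :=
    isQuasiAffineHom_of_isEmbedding _ (Scheme.homeoOfIso H.isoPullback).isEmbedding
  refine ⟨(Scheme.Modules.pullback H.isoPullback.hom).obj ((Scheme.Modules.pullback (pullback.fst f g)).obj L), ?_⟩
  have := isRelAmple_pullback_of_isQuasiAffine hq (isRelAmple_baseChange f g hL)
  rwa [H.isoPullback_hom_snd] at this

theorem isQuasiProjective_of_isPullback (H : IsPullback h f' f g) (hf : RelProj.IsQuasiProjective f) :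
    RelProj.IsQuasiProjective f' := by
  obtain ⟨h1, h2, L, hL⟩ := hf
  exact ⟨MorphismProperty.of_isPullback H h1, MorphismProperty.of_isPullback H h2,
    exists_isRelAmple_of_isPullback H hL⟩

theorem exists_isAmple_of_isAffine (Y : Scheme.{u}) [IsAffine Y] : ∃ M : Y.Modules, CohB1.IsAmple M :=
  ⟨Coh.structureModule Y, isQuasiAffine_iff_isAmple.1 inferInstance⟩

theorem isLocallyProjective_iff (f : X ⟶ S) :
    RelProj.IsLocallyProjective f ↔ ∀ s : S, ∃ U : S.Opens, s ∈ U ∧ RelProj.IsHProjective (f ∣_ U) := by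
  refine ⟨fun h s => ?_, fun h s => ?_⟩
  · obtain ⟨U, hsU, hU⟩ := h s
    obtain ⟨V, hV, hsV, hVU⟩ := exists_isAffineOpen_mem_and_subset (U := U) hsU
    obtain ⟨k, hk⟩ := exists_isPullback_le f (U := U) (V := V) hVU
    haveI : IsAffine V.toScheme := hV
    exact ⟨V, hsV, (H11Proj.isProjective_iff_isHProjective _ (exists_isAmple_of_isAffine _)).1
      (isProjective_of_isPullback hk hU)⟩
  · obtain ⟨U, hsU, hU⟩ := h s
    exact ⟨U, hsU, H11Proj.isProjective_of_isHProjective hU⟩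

theorem locally_quasiProjective_iff (f : X ⟶ S) :
    (∀ s : S, ∃ U : S.Opens, s ∈ U ∧ RelProj.IsQuasiProjective (f ∣_ U)) ↔
      ∀ s : S, ∃ U : S.Opens, s ∈ U ∧ RelProj.IsHQuasiProjective (f ∣_ U) := by
  refine ⟨fun h s => ?_, fun h s => ?_⟩
  · obtain ⟨U, hsU, hU⟩ := h s
    obtain ⟨V, hV, hsV, hVU⟩ := exists_isAffineOpen_mem_and_subset (U := U) hsU
    obtain ⟨k, hk⟩ := exists_isPullback_le f (U := U) (V := V) hVU
    haveI : IsAffine V.toScheme := hV
    obtain ⟨h1, h2, L, hL⟩ := isQuasiProjective_of_isPullback hk hU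
    have hA : CohB1.IsAmple L := isRelAmple_iff_isAmple_of_isAffine.1 hL
    haveI : CompactSpace (f ⁻¹ᵁ V).toScheme := hA.2.1
    haveI := quasiSeparatedSpace_of_isAmple hA
    obtain ⟨n, i, hi, hiq⟩ := exists_immersion_projSpaceOver (f ∣_ V) hA
    refine ⟨V, hsV, n, i, hi, ?_, hiq⟩
    haveI : QuasiCompact (i ≫ ProjSpaceOver.toBase n V.toScheme) := by rw [hiq]; exact h2
    haveI : QuasiSeparated (ProjSpaceOver.toBase n V.toScheme) :=
      MorphismProperty.pullback_snd _ _ (inferInstanceAs (QuasiSeparated (ProjSpace.toSpec n (ULift.{u} ℤ))))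
    exact QuasiCompact.of_comp i (ProjSpaceOver.toBase n V.toScheme)
  · obtain ⟨U, hsU, hU⟩ := h s
    exact ⟨U, hsU, isQuasiProjective_of_isHQuasiProjective hU⟩

theorem isRelVeryAmplePn_of_iso {L M : X.Modules} (e : L ≅ M) (h : RelAmple.IsRelVeryAmplePn f L) :
    RelAmple.IsRelVeryAmplePn f M := by
  obtain ⟨n, i, hi, hc, ⟨φ⟩⟩ := h
  exact ⟨n, i, hi, hc, ⟨e.symm ≪≫ φ⟩⟩

theorem isRelAmple_of_isRelVeryAmplePn [QuasiCompact f] {L : X.Modules} (h : RelAmple.IsRelVeryAmplePn f L) :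
    RelAmple.IsRelAmple f L := by
  obtain ⟨n, i, hi, hc, ⟨φ⟩⟩ := h
  haveI := hi
  haveI : QuasiCompact (i ≫ ProjSpaceOver.toBase n S) := by
    rw [show i ≫ ProjSpaceOver.toBase n S = f from hc]; infer_instance
  haveI : QuasiSeparated (ProjSpaceOver.toBase n S) :=
    MorphismProperty.pullback_snd _ _ (inferInstanceAs (QuasiSeparated (ProjSpace.toSpec n (ULift.{u} ℤ))))
  haveI : QuasiCompact i := QuasiCompact.of_comp i (ProjSpaceOver.toBase n S)
  have hq : Mor2.IsQuasiAffine i := isQuasiAffineHom_of_isEmbedding i i.isEmbedding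
  have := isRelAmple_pullback_of_isQuasiAffine hq (isRelAmple_twistOver n S)
  rw [show i ≫ ProjSpaceOver.toBase n S = f from hc] at this
  exact isRelAmple_of_iso φ.symm this

theorem isRelAmple_iff_locally (f : X ⟶ S) [LocallyOfFiniteType f] [QuasiCompact f] (L : X.Modules)
    (hL : PicF.IsInvertible L) :
    RelAmple.IsRelAmple f L ↔
      ∃ (ι : Type u) (V : ι → S.Opens), (⨆ j, V j) = ⊤ ∧
        ∀ j, ∃ d : ℕ, 0 < d ∧
          RelAmple.IsRelVeryAmplePn (f ∣_ V j) ((CohB1.tensorPow L d).restrict (f ⁻¹ᵁ V j).ι) := by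
  refine ⟨fun h => ?_, ?_⟩
  · refine ⟨S.affineOpens, fun V => V.1, iSup_affineOpens_eq_top S, fun V => ?_⟩
    haveI : IsAffine V.1.toScheme := V.2
    have hA : AmpleOn L (f ⁻¹ᵁ V.1) := (isRelAmple_iff.1 h).2 V.1 V.2
    haveI : CompactSpace (f ⁻¹ᵁ V.1).toScheme := hA.2.1
    haveI := quasiSeparatedSpace_of_isAmple hA
    haveI : LocallyOfFiniteType (f ∣_ V.1) :=
      MorphismProperty.of_isPullback (isPullback_morphismRestrict f V.1).flip ‹LocallyOfFiniteType f›
    obtain ⟨N, hN⟩ := eventually_isRelVeryAmplePn (f ∣_ V.1) hA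
    obtain ⟨φ⟩ := exists_iso_pullback_tensorPow (f ⁻¹ᵁ V.1).ι hL (N + 1)
    exact ⟨N + 1, Nat.succ_pos _, isRelVeryAmplePn_of_iso
      (φ.symm ≪≫ ((Scheme.Modules.restrictFunctorIsoPullback (f ⁻¹ᵁ V.1).ι).app _).symm) (hN _ (Nat.le_succ N))⟩
  · rintro ⟨ι, V, hV, h⟩
    refine (isRelAmple_iff_of_openCover V hV).2 fun j => ?_
    obtain ⟨d, hd, hj⟩ := h j
    haveI : QuasiCompact (f ∣_ V j) :=
      MorphismProperty.of_isPullback (isPullback_morphismRestrict f (V j)).flip ‹QuasiCompact f›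
    obtain ⟨φ⟩ := exists_iso_pullback_tensorPow (f ⁻¹ᵁ V j).ι hL d
    have h1 := isRelAmple_of_iso (((Scheme.Modules.restrictFunctorIsoPullback (f ⁻¹ᵁ V j).ι).app _) ≪≫ φ)
      (isRelAmple_of_isRelVeryAmplePn hj)
    exact isRelAmple_of_iso ((Scheme.Modules.restrictFunctorIsoPullback (f ⁻¹ᵁ V j).ι).app L).symm
      ((isRelAmple_tensorPow_iff (isInvertible_pullback _ hL) d hd).2 h1)

end Groth.Agent.H17.LocalProj
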