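import Groth.Agent.H11Ample.RelQuasiAffine
import Groth.Agent.H11Ample.RelComp

/-! For `f : X ⟶ S` universally closed and `L` relatively ample, loci of generation are affine over `S`. -/

set_option autoImplicit false
set_option linter.style.haveILetI false
noncomputable section
universe u
open CategoryTheory CategoryTheory.Limits AlgebraicGeometry TopologicalSpace CohB1 Opposite
open Groth.Agent.H11Tilde Groth.Agent.H11Ample

namespace Groth.Agent.H17.GenAffine

variable {X S : Scheme.{u}} {L : X.Modules}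

theorem isQuasiAffine_gen (hA : CohB1.IsAmple L) (s : Γ(L, ⊤)) [CompactSpace (gen L s).toScheme] :
    (gen L s).toScheme.IsQuasiAffine := by
  have hL := isInvertible_of_isAmple hA
  let W := (gen L s).toScheme
  let LW := (Scheme.Modules.pullback (gen L s).ι).obj L
  have hgen : gen LW (pullTop (gen L s).ι s) = ⊤ := by
    have h := gen_smul_pullSect (gen L s).ι hL s (c := 1) isUnit_one
    rw [one_smul] at h
    rw [h]
    exact (gen L s).ι_preimage_self
  have he := isGen_gen (L := LW) (pullTop (gen L s).ι s)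
  rw [hgen] at he
  have he' : IsGen (Coh.structureModule W) (V := ⊤) (1 : Γ(W, ⊤)) :=
    isGen_of_bijective fun V hV => by
      refine Eq.mpr (congrArg Function.Bijective (funext fun r => ?_)) Function.bijective_id
      change (r * (W.presheaf.map (homOfLE hV).op (1 : Γ(W, ⊤))) : Γ(W, V)) = r
      rw [map_one, mul_one]
  obtain ⟨φ, -⟩ := exists_iso_of_gen (P := LW) (Q := Coh.structureModule W) (J := PUnit.{1}) (fun _ => ⊤)
    (fun _ => ⟨⟨⟩, trivial⟩) (fun _ => _) (fun _ => he) (fun _ => (1 : Γ(W, ⊤))) (fun _ => he') fun i j u hu => by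
      have hb := (he.bijective (inf_le_left : (⊤ : W.Opens) ⊓ ⊤ ≤ ⊤)).1
      have h1 : u = 1 := hb (show u • _ = (1 : Γ(W, ⊤ ⊓ ⊤)) • _ from hu.symm.trans (one_smul _ _).symm)
      rw [h1, one_smul]
  exact isQuasiAffine_iff_isAmple.2 (isAmple_of_iso φ (isAmple_pullback_of_isOpenImmersion (gen L s).ι hA))

theorem isAffineOpen_gen [IsAffine S] (f : X ⟶ S) [UniversallyClosed f] (hA : CohB1.IsAmple L) (s : Γ(L, ⊤)) :
    IsAffineOpen (gen L s) := by
  obtain ⟨hL, hcX, hA'⟩ := isAmple_iff.1 hA
  haveI := isAffineHom_gen_ι hL s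
  haveI : CompactSpace (gen L s).toScheme := QuasiCompact.compactSpace_of_compactSpace (gen L s).ι
  haveI := isQuasiAffine_gen hA s
  let W := (gen L s).toScheme
  let q : Spec Γ(W, ⊤) ⟶ S := Spec.map ((gen L s).ι ≫ f).appTop ≫ S.isoSpec.inv
  have hq : W.toSpecΓ ≫ q = (gen L s).ι ≫ f := by
    rw [← Category.assoc, Iso.comp_inv_eq]
    exact (Scheme.toSpecΓ_naturality ((gen L s).ι ≫ f)).symm
  haveI : IsAffineHom q := isAffineHom_of_isAffine _
  let g : W ⟶ pullback f q := pullback.lift (gen L s).ι W.toSpecΓ hq.symm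
  let π := pullback.fst f q
  haveI : IsSeparated π := MorphismProperty.pullback_fst _ _ (inferInstanceAs (IsSeparated q))
  have hg : IsClosed (Set.range g) := by
    rw [← isOpen_compl_iff, isOpen_iff_forall_mem_open]
    intro p hp
    by_cases hx : π p ∈ gen L s
    · have hgW : Set.range g ⊆ ((π ⁻¹ᵁ gen L s).ι.opensRange : Set _) := by
        rintro _ ⟨w, rfl⟩
        rw [Scheme.Opens.opensRange_ι]
        show π (g w) ∈ gen L s
        rw [← Scheme.Hom.comp_apply, show g ≫ π = (gen L s).ι from pullback.lift_fst _ _ _]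
        exact w.2
      let σ := IsOpenImmersion.lift (π ⁻¹ᵁ gen L s).ι g hgW
      have hσ : σ ≫ (π ⁻¹ᵁ gen L s).ι = g := IsOpenImmersion.lift_fac _ _ _
      have hσπ : σ ≫ (π ∣_ gen L s) = 𝟙 W := by
        rw [← cancel_mono (gen L s).ι, Category.assoc, morphismRestrict_ι, ← Category.assoc, hσ, Category.id_comp]
        exact pullback.lift_fst _ _ _
      haveI : IsClosedImmersion (σ ≫ (π ∣_ gen L s)) := by rw [hσπ]; infer_instance
      haveI : IsSeparated (π ∣_ gen L s) :=
        MorphismProperty.of_isPullback (isPullback_morphismRestrict π (gen L s)).flip ‹IsSeparated π›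
      haveI : IsClosedImmersion σ := IsClosedImmersion.of_comp σ (π ∣_ gen L s)
      refine ⟨(π ⁻¹ᵁ gen L s).ι '' (Set.range σ)ᶜ, ?_,
        (π ⁻¹ᵁ gen L s).ι.isOpenEmbedding.isOpenMap _ σ.isClosedEmbedding.isClosed_range.isOpen_compl,
        ⟨⟨p, hx⟩, ?_, rfl⟩⟩
      · rintro _ ⟨y, hy, rfl⟩ ⟨w, hw⟩
        refine hy ⟨w, (π ⁻¹ᵁ gen L s).ι.isOpenEmbedding.injective ?_⟩
        rw [← hw, ← Scheme.Hom.comp_apply, hσ]
      · rintro ⟨w, hw⟩
        refine hp ⟨w, ?_⟩
        rw [← hσ, Scheme.Hom.comp_apply, hw]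
        rfl
    · obtain ⟨k, t, hk, hxt, -⟩ := hA' (π p)
      let G := gen (tensorPow L k) t
      let sk := spow s k
      have hsk : gen (tensorPow L k) sk = gen L s := gen_spow hL s k hk
      obtain ⟨c, hc⟩ := exists_coeff (isGen_gen t) ((tensorPow L k).presheaf.map (homOfLE (le_top : G ≤ ⊤)).op sk)
      obtain ⟨a, ha⟩ := exists_coeff (isGen_gen sk)
        ((tensorPow L k).presheaf.map (homOfLE (le_top : gen (tensorPow L k) sk ≤ ⊤)).op t)
      let V := G ⊓ gen (tensorPow L k) sk
      have hac : X.presheaf.map (homOfLE (inf_le_right : V ≤ _)).op a *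
          X.presheaf.map (homOfLE (inf_le_left : V ≤ G)).op c = 1 := by
        have h1 := congrArg ((tensorPow L k).presheaf.map (homOfLE (inf_le_right : V ≤ _)).op) ha
        have h2 := congrArg ((tensorPow L k).presheaf.map (homOfLE (inf_le_left : V ≤ G)).op) hc
        rw [Scheme.Modules.map_smul, H10Coh.mres_mres, H10Coh.mres_mres] at h1 h2
        rw [h2, smul_smul] at h1
        refine ((isGen_gen t).bijective (inf_le_left : V ≤ G)).1 ?_
        show _ • _ = (1 : Γ(X, V)) • _
        rw [one_smul, H10Coh.mres_mres]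
        exact h1.symm
      have hcp : π p ∉ X.basicOpen c := by
        rw [← gen_inf_eq_basicOpen (isGen_gen t) sk c hc, hsk]
        exact fun h => hx h.1
      let a' : Γ(W, ⊤) := (gen L s).ι.appLE (gen (tensorPow L k) sk) ⊤
        (by rw [hsk, Scheme.Opens.ι_preimage_self]) a
      let Q := π ⁻¹ᵁ G
      let h : Γ(pullback f q, Q) := 1 - (pullback.snd f q).appLE ⊤ Q le_top ((Scheme.ΓSpecIso Γ(W, ⊤)).inv a') *
        π.app G c
      refine ⟨(pullback f q).basicOpen h, ?_, ((pullback f q).basicOpen h).isOpen, ?_⟩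
      · rintro _ hy ⟨w, rfl⟩
        have hw : w ∈ g ⁻¹ᵁ (pullback f q).basicOpen h := hy
        rw [Scheme.preimage_basicOpen] at hw
        suffices h0 : g.app Q h = 0 by rw [h0, Scheme.basicOpen_zero] at hw; exact hw
        have hgπ : g ≫ π = (gen L s).ι := pullback.lift_fst _ _ _
        have hgs : g ≫ pullback.snd f q = W.toSpecΓ := pullback.lift_snd _ _ _
        have hO : g ⁻¹ᵁ Q = (gen L s).ι ⁻¹ᵁ G := by rw [← hgπ, Scheme.Hom.comp_preimage]
        have hOV : g ⁻¹ᵁ Q ≤ (gen L s).ι ⁻¹ᵁ V := by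
          rw [Scheme.Hom.preimage_inf, hsk, Scheme.Opens.ι_preimage_self]
          exact le_inf hO.le le_top
        have e1 : g.app Q (π.app G c) = (gen L s).ι.appLE V (g ⁻¹ᵁ Q) hOV
            (X.presheaf.map (homOfLE (inf_le_left : V ≤ G)).op c) := by
          have e := Scheme.Hom.appLE_comp_appLE g π G Q (g ⁻¹ᵁ Q) le_rfl le_rfl
          simp only [hgπ] at e
          rw [← CommRingCat.comp_apply, ← CommRingCat.comp_apply, Scheme.Hom.map_appLE, ← e,
            Scheme.Hom.appLE_eq_app, Scheme.Hom.appLE_eq_app]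
        have e2 : g.app Q ((pullback.snd f q).appLE ⊤ Q le_top ((Scheme.ΓSpecIso Γ(W, ⊤)).inv a')) =
            (gen L s).ι.appLE V (g ⁻¹ᵁ Q) hOV
              (X.presheaf.map (homOfLE (inf_le_right : V ≤ _)).op a) := by
          have e := Scheme.Hom.appLE_comp_appLE g (pullback.snd f q) ⊤ Q (g ⁻¹ᵁ Q) le_top le_rfl
          simp only [hgs] at e
          have e' := congr($e ((Scheme.ΓSpecIso Γ(W, ⊤)).inv a'))
          rw [← Scheme.Hom.appLE_eq_app]
          refine Eq.trans e' ?_
          rw [Scheme.Hom.appLE, CommRingCat.comp_apply]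
          erw [show W.toSpecΓ.app ⊤ ((Scheme.ΓSpecIso Γ(W, ⊤)).inv a') = a' by
            rw [show W.toSpecΓ.app ⊤ = _ from Scheme.toSpecΓ_appTop W]
            exact congr($((Scheme.ΓSpecIso Γ(W, ⊤)).inv_hom_id) a')]
          rw [← CommRingCat.comp_apply, Scheme.Hom.map_appLE]
          simp only [a']
          exact congr($(Scheme.Hom.appLE_map (gen L s).ι _ (homOfLE (le_top : g ⁻¹ᵁ Q ≤ ⊤)).op) a)
        simp only [h, map_sub, map_one, map_mul]
        rw [e2, e1, ← map_mul, hac, map_one, sub_self]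
      · have hcp' : p ∉ (pullback f q).basicOpen (π.app G c) := by
          rw [← Scheme.preimage_basicOpen]; exact hcp
        show p ∈ (pullback f q).basicOpen h
        rw [Scheme.mem_basicOpen _ _ _ (show p ∈ Q from hxt)] at hcp' ⊢
        simp only [h, map_sub, map_one, map_mul]
        refine IsLocalRing.isUnit_one_sub_self_of_mem_nonunits _ ?_
        exact fun hu => hcp' (isUnit_of_mul_isUnit_right hu)
  haveI : UniversallyClosed (pullback.snd f q) := MorphismProperty.pullback_snd _ _ ‹UniversallyClosed f›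
  have hr : Set.range W.toSpecΓ = Set.univ := by
    have h1 : IsClosed (Set.range W.toSpecΓ) := by
      rw [show Set.range W.toSpecΓ = pullback.snd f q '' Set.range g by
        rw [← Set.range_comp, show W.toSpecΓ = g ≫ pullback.snd f q from (pullback.lift_snd _ _ _).symm]; rfl]
      exact (pullback.snd f q).isClosedMap _ hg
    rw [← h1.closure_eq]
    exact W.toSpecΓ.denseRange.closure_range
  haveI : Surjective W.toSpecΓ := ⟨Set.range_eq_univ.1 hr⟩
  haveI : IsIso W.toSpecΓ := (isIso_iff_isOpenImmersion_and_surjective _).2 ⟨inferInstance, inferInstance⟩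
  exact IsAffine.of_isIso W.toSpecΓ

theorem isAffineHom_gen (f : X ⟶ S) [UniversallyClosed f] (hA : RelAmple.IsRelAmple f L) (s : Γ(L, ⊤)) :
    IsAffineHom ((gen L s).ι ≫ f) := by
  refine ⟨fun V hV => ?_⟩
  have hA' : AmpleOn L (f ⁻¹ᵁ V) := (isRelAmple_iff.1 hA).2 V hV
  haveI : IsAffine V.toScheme := hV
  haveI : UniversallyClosed (f ∣_ V) :=
    MorphismProperty.of_isPullback (isPullback_morphismRestrict f V).flip ‹UniversallyClosed f›
  have h := isAffineOpen_gen (f ∣_ V) hA' ((1 : Γ((f ⁻¹ᵁ V).toScheme, ⊤)) • pullTop (f ⁻¹ᵁ V).ι s)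
  rw [gen_smul_pullSect _ (isInvertible_of_isRelAmple hA) s isUnit_one] at h
  rw [← (gen L s).ι.isAffineOpen_iff_of_isOpenImmersion]
  convert h.image_of_isOpenImmersion (f ⁻¹ᵁ V).ι using 1
  rw [Scheme.Hom.image_preimage_eq_opensRange_inf, Scheme.Hom.comp_preimage,
    Scheme.Hom.image_preimage_eq_opensRange_inf, Scheme.Opens.opensRange_ι, Scheme.Opens.opensRange_ι, inf_comm]

end Groth.Agent.H17.GenAffine
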