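import Groth.Agent.H17.Ample.VeryAmpleOfPn
import Groth.Agent.H17.Ample.LocalProj
import Groth.Agent.H11Sym.VeryAmpleLocal
import Groth.Agent.H11Sym.Bundle
import Groth.Agent.H8Props.QCohExtend
import Groth.Agent.H10Coh.FinType2
import Groth.Agent.H11Proj.ProjTransfer

/-! Quasi-projective over qcqs: open in projective. -/

set_option autoImplicit false
set_option linter.style.haveILetI false
noncomputable section
universe u
open CategoryTheory CategoryTheory.Limits AlgebraicGeometry Opposite TopologicalSpace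
open Groth.Agent.H11Tilde Groth.Agent.H11Ample Groth.Agent.H11Proj Groth.Agent.H11Sym

namespace Groth.Agent.H17.OpenInProj

variable {X S : Scheme.{u}}

theorem isFT_biprod {G H : S.Modules} [G.IsQuasicoherent] [H.IsQuasicoherent] (hG : CohB1.IsFT G)
    (hH : CohB1.IsFT H) : CohB1.IsFT (G ⊞ H) := by
  classical
  haveI := H8Props.QCohExtend.isQuasicoherent_biprod G H
  refine (H10Coh.isFT_isFP_of_affineCover (G ⊞ H) (I := S.affineOpens) (fun V => V.1) (iSup_affineOpens_eq_top S)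
    (fun V => V.2) fun V => ?_).1
  obtain ⟨s, hs⟩ := (H10Coh.finite_sections G hG V.2).fg_top
  obtain ⟨t, ht⟩ := (H10Coh.finite_sections H hH V.2).fg_top
  refine ⟨⟨s.image (fun z => (biprod.inl : G ⟶ G ⊞ H).app V.1 z) ∪
    t.image (fun z => (biprod.inr : H ⟶ G ⊞ H).app V.1 z), ?_⟩⟩
  refine eq_top_iff.2 fun z _ => ?_
  have key : ∀ {M : S.Modules} (φ : M ⟶ G ⊞ H) (r : Finset Γ(M, V.1)) (y : Γ(M, V.1)),
      y ∈ Submodule.span Γ(S, V.1) (r : Set Γ(M, V.1)) →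
      φ.app V.1 y ∈ Submodule.span Γ(S, V.1) ((r.image fun z => φ.app V.1 z : Finset _) : Set Γ(G ⊞ H, V.1)) := by
    intro M φ r y hy
    induction hy using Submodule.span_induction with
    | mem a ha => exact Submodule.subset_span (Finset.mem_coe.2 (Finset.mem_image_of_mem _ ha))
    | zero => rw [map_zero]; exact Submodule.zero_mem _
    | add a b _ _ ha hb => rw [map_add]; exact Submodule.add_mem _ ha hb
    | smul c a _ ha => rw [Scheme.Modules.Hom.app_smul]; exact Submodule.smul_mem _ c ha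
  have e : z = (biprod.inl : G ⟶ G ⊞ H).app V.1 ((biprod.fst : G ⊞ H ⟶ G).app V.1 z) +
      (biprod.inr : H ⟶ G ⊞ H).app V.1 ((biprod.snd : G ⊞ H ⟶ H).app V.1 z) :=
    (congr($(congrArg (fun φ : G ⊞ H ⟶ G ⊞ H => φ.app V.1) (biprod.total (X := G) (Y := H))) z)).symm
  rw [e, Finset.coe_union, Submodule.span_union]
  exact Submodule.add_mem_sup (key biprod.inl s _ (hs ▸ Submodule.mem_top))
    (key biprod.inr t _ (ht ▸ Submodule.mem_top))

theorem exists_ft_mem [CompactSpace S] [QuasiSeparatedSpace S] (F : S.Modules) (hF : Coh.IsQCoh F) :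
    ∀ l : List (Σ U : S.affineOpens, Γ(F, U.1)),
      ∃ (G : S.Modules) (i : G ⟶ F), Coh.IsQCoh G ∧ CohB1.IsFT G ∧ ∀ p ∈ l, ∃ g, i.app p.1.1 g = p.2 := by
  intro l
  induction l with
  | nil =>
    haveI : Coh.IsQCoh F := hF
    obtain ⟨G, i, -, h1, h2, -⟩ := H8Props.QCohExtend.exists_subsheaf_mem F ⟨⊥, isAffineOpen_bot S⟩ 0
    exact ⟨G, i, h1, h2, fun p hp => absurd hp List.not_mem_nil⟩
  | cons p l ih =>
    obtain ⟨G, i, h1, h2, h⟩ := ih
    haveI : Coh.IsQCoh F := hF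
    obtain ⟨H, j, -, h1', h2', g, hg⟩ := H8Props.QCohExtend.exists_subsheaf_mem F p.1 p.2
    haveI : G.IsQuasicoherent := h1
    haveI : H.IsQuasicoherent := h1'
    refine ⟨G ⊞ H, biprod.desc i j, H8Props.QCohExtend.isQuasicoherent_biprod G H, isFT_biprod h2 h2', ?_⟩
    intro p' hp'
    rcases List.mem_cons.1 hp' with rfl | hp'
    · refine ⟨(biprod.inr : H ⟶ G ⊞ H).app p'.1.1 g, ?_⟩
      exact (congr($(congrArg (fun φ : H ⟶ F => φ.app p'.1.1) (biprod.inr_desc i j)) g)).trans hg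
    · obtain ⟨g', hg'⟩ := h p' hp'
      refine ⟨(biprod.inl : G ⟶ G ⊞ H).app p'.1.1 g', ?_⟩
      exact (congr($(congrArg (fun φ : G ⟶ F => φ.app p'.1.1) (biprod.inl_desc i j)) g')).trans hg'

variable {E : S.Modules} {L : X.Modules} {q : X ⟶ S} (u : E ⟶ (Scheme.Modules.pushforward q).obj L)

/-- Functions from the base and the ratios of sections in `A`. -/
def pR (g : GenPt u) (A : Set Γ(E, g.U)) : Subring Γ(X, g.V) :=
  Subring.closure (Set.range (q.appLE g.U g.V g.le) ∪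
    {c | ∃ n ∈ A, c • resS L g.le (uSec u g.m) = resS L g.le (uSec u n)})

theorem pR_mono (g : GenPt u) {A B : Set Γ(E, g.U)} (h : A ⊆ B) : pR u g A ≤ pR u g B :=
  Subring.closure_mono (Set.union_subset_union_right _ fun _ ⟨n, hn, e⟩ => ⟨n, h hn, e⟩)

theorem exists_finset_pR (g : GenPt u) {c : Γ(X, g.V)} (hc : c ∈ g.ratioRing) :
    ∃ B : Finset Γ(E, g.U), c ∈ pR u g B := by
  classical
  induction hc using Subring.closure_induction with
  | mem x hx =>
    rcases hx with hx | ⟨n, e⟩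
    · exact ⟨∅, Subring.subset_closure (Or.inl hx)⟩
    · exact ⟨{n}, Subring.subset_closure (Or.inr ⟨n, by simp, e⟩)⟩
  | zero => exact ⟨∅, Subring.zero_mem _⟩
  | one => exact ⟨∅, Subring.one_mem _⟩
  | neg x _ hx => exact hx.imp fun B h => Subring.neg_mem _ h
  | add x y _ _ hx hy =>
    obtain ⟨B, h⟩ := hx
    obtain ⟨B', h'⟩ := hy
    exact ⟨B ∪ B', Subring.add_mem _ (pR_mono u g (by simp) h) (pR_mono u g (by simp) h')⟩
  | mul x y _ _ hx hy =>
    obtain ⟨B, h⟩ := hx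
    obtain ⟨B', h'⟩ := hy
    exact ⟨B ∪ B', Subring.mul_mem _ (pR_mono u g (by simp) h) (pR_mono u g (by simp) h')⟩

variable {u}

theorem exists_finset_embPt [LocallyOfFiniteType q] {x : X} (a : EmbPt u x) :
    ∃ (B : Finset Γ(E, a.U)) (ht : a.t ∈ pR u (gMax u a.hU a.m) (↑B : Set Γ(E, a.U))),
      H11Sym.fracRing (pR u (gMax u a.hU a.m) (↑B : Set Γ(E, a.U))) ht = ⊤ := by
  classical
  let g := gMax u a.hU a.m
  have hle : X.basicOpen a.t ≤ q ⁻¹ᵁ a.U := (X.basicOpen_le _).trans g.le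
  let f := (q.appLE a.U (X.basicOpen a.t) hle).hom
  have hf : f.FiniteType := q.finiteType_appLE a.hU a.aff hle
  obtain ⟨T, hT⟩ := (@Algebra.FiniteType.out Γ(S, a.U) Γ(X, X.basicOpen a.t) _ _ f.toAlgebra hf)
  letI := f.toAlgebra
  choose N c hc e using fun z : T => a.surj z.1
  choose Bz hBz using fun z : T => exists_finset_pR u g (hc z)
  obtain ⟨Bt, hBt⟩ := exists_finset_pR u g a.ht
  refine ⟨Bt ∪ Finset.univ.biUnion Bz, pR_mono u g (fun w hw => Finset.mem_coe.2 (Finset.mem_union_left _ hw)) hBt, eq_top_iff.2 ?_⟩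
  have hT' := congrArg Subalgebra.toSubring hT
  rw [Algebra.adjoin_eq_ring_closure, Algebra.top_toSubring] at hT'
  rw [← hT', Subring.closure_le]
  rintro d (⟨r, rfl⟩ | hd)
  · refine ⟨0, q.appLE a.U g.V g.le r, Subring.subset_closure (Or.inl ⟨r, rfl⟩), ?_⟩
    rw [pow_zero, mul_one]
    show q.appLE a.U (X.basicOpen a.t) hle r = _
    simp only [resF, ← ConcreteCategory.comp_apply]
    exact congr($((Scheme.Hom.appLE_map q g.le (homOfLE (X.basicOpen_le a.t)).op).symm) r)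
  · refine ⟨N ⟨d, hd⟩, c ⟨d, hd⟩, pR_mono u g ?_ (hBz ⟨d, hd⟩), e ⟨d, hd⟩⟩
    intro w hw
    exact Finset.mem_coe.2 (Finset.mem_union_right _ (Finset.mem_biUnion.2 ⟨⟨d, hd⟩, Finset.mem_univ _, hw⟩))

theorem nonempty_embPt_comp {G : S.Modules} (i : G ⟶ E) {x : X} {U : S.Opens} (hU : IsAffineOpen U) (m : Γ(E, U))
    (B : Set Γ(E, U)) (t : Γ(X, (gMax u hU m).V)) (ht : t ∈ pR u (gMax u hU m) B) (hx : x ∈ X.basicOpen t)
    (haff : IsAffineOpen (X.basicOpen t)) (hfr : H11Sym.fracRing (pR u (gMax u hU m) B) ht = ⊤)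
    (hm : ∃ g, i.app U g = m) (hB : ∀ n ∈ B, ∃ g, i.app U g = n) : Nonempty (EmbPt (i ≫ u) x) := by
  obtain ⟨m', rfl⟩ := hm
  have hle : pR u (gMax u hU (i.app U m')) B ≤ (gMax (i ≫ u) hU m').ratioRing := by
    refine Subring.closure_le.2 ?_
    rintro c (⟨r, rfl⟩ | ⟨n, hn, e⟩)
    · exact (gMax (i ≫ u) hU m').base_mem_ratioRing r
    · obtain ⟨n', rfl⟩ := hB n hn
      exact (gMax (i ≫ u) hU m').mem_ratioRing n' e
  refine ⟨⟨U, hU, m', t, hle ht, hx, haff, fun z => ?_⟩⟩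
  obtain ⟨N, a, ha, e⟩ := hfr.ge (Subring.mem_top z)
  exact ⟨N, a, hle ha, e⟩

theorem exists_ft_emb [CompactSpace S] [QuasiSeparatedSpace S] [LocallyOfFiniteType q] [QuasiCompact q]
    (hE : Coh.IsQCoh E) (hu : Emb u) :
    ∃ (G : S.Modules) (v : G ⟶ (Scheme.Modules.pushforward q).obj L), Coh.IsQCoh G ∧ CohB1.IsFT G ∧ Emb v := by
  classical
  haveI : CompactSpace X := QuasiCompact.compactSpace_of_compactSpace q
  let a := fun x : X => (hu x).some
  obtain ⟨T, hT⟩ := CompactSpace.elim_nhds_subcover (fun x => (X.basicOpen (a x).t : Set X))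
    (fun x => (X.basicOpen (a x).t).isOpen.mem_nhds (a x).mem)
  choose B hBt hB using fun x : X => exists_finset_embPt (a x)
  let l : List (Σ U : S.affineOpens, Γ(E, U.1)) :=
    T.toList.flatMap fun x => ⟨⟨(a x).U, (a x).hU⟩, (a x).m⟩ :: (B x).toList.map fun n => ⟨⟨(a x).U, (a x).hU⟩, n⟩
  obtain ⟨G, i, hGq, hGf, hmem⟩ := exists_ft_mem E hE l
  refine ⟨G, i ≫ u, hGq, hGf, fun y => ?_⟩
  obtain ⟨x, hxT, hy⟩ := Set.mem_iUnion₂.1 (hT.ge (Set.mem_univ y))
  refine nonempty_embPt_comp i (a x).hU (a x).m (B x) (a x).t (hBt x) hy (a x).aff (hB x) ?_ fun n hn => ?_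
  · exact hmem ⟨⟨(a x).U, (a x).hU⟩, (a x).m⟩ (List.mem_flatMap.2 ⟨x, Finset.mem_toList.2 hxT, List.mem_cons_self⟩)
  · exact hmem ⟨⟨(a x).U, (a x).hU⟩, n⟩ (List.mem_flatMap.2 ⟨x, Finset.mem_toList.2 hxT,
      List.mem_cons_of_mem _ (List.mem_map.2 ⟨n, Finset.mem_toList.2 hn, rfl⟩)⟩)

theorem exists_isRelVeryAmple_pow {f : X ⟶ S} [CompactSpace S] [LocallyOfFiniteType f] [QuasiCompact f]
    (hL : RelAmple.IsRelAmple f L) : ∃ d : ℕ, RelProj.IsRelVeryAmple f (CohB1.tensorPow L d) := by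
  classical
  have hL' := isInvertible_of_isRelAmple hL
  have hloc : ∀ V : S.affineOpens, ∃ N, ∀ d, N ≤ d →
      RelAmple.IsRelVeryAmplePn (f ∣_ V.1) ((CohB1.tensorPow L d).restrict (f ⁻¹ᵁ V.1).ι) := by
    intro V
    haveI : IsAffine V.1.toScheme := V.2
    have hA : AmpleOn L (f ⁻¹ᵁ V.1) := (isRelAmple_iff.1 hL).2 V.1 V.2
    haveI : CompactSpace (f ⁻¹ᵁ V.1).toScheme := hA.2.1
    haveI := quasiSeparatedSpace_of_isAmple hA
    haveI : LocallyOfFiniteType (f ∣_ V.1) :=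
      MorphismProperty.of_isPullback (isPullback_morphismRestrict f V.1).flip ‹LocallyOfFiniteType f›
    obtain ⟨N, hN⟩ := eventually_isRelVeryAmplePn (f ∣_ V.1) hA
    refine ⟨N, fun d hd => ?_⟩
    obtain ⟨φ⟩ := exists_iso_pullback_tensorPow (f ⁻¹ᵁ V.1).ι hL' d
    exact H17.LocalProj.isRelVeryAmplePn_of_iso
      (φ.symm ≪≫ ((Scheme.Modules.restrictFunctorIsoPullback (f ⁻¹ᵁ V.1).ι).app _).symm) (hN d hd)
  choose N hN using hloc
  obtain ⟨F, hF⟩ : ∃ F : Finset S.affineOpens, (Set.univ : Set S) ⊆ ⋃ W ∈ F, (W.1 : Set S) := by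
    refine isCompact_univ.elim_finite_subcover (fun W : S.affineOpens => (W.1 : Set S)) (fun W => W.1.isOpen) ?_
    intro x _
    obtain ⟨W, hW, hx⟩ := exists_isAffineOpen_mem x
    exact Set.mem_iUnion.2 ⟨⟨W, hW⟩, hx⟩
  refine ⟨F.sup N, H11Sym.isRelVeryAmple_of_cover (isInvertible_tensorPow hL' _) (ι := F) (fun W => W.1.1)
    (eq_top_iff.2 fun x _ => ?_) fun W => ?_⟩
  · obtain ⟨W, hW, hx⟩ := Set.mem_iUnion₂.1 (hF (Set.mem_univ x))
    exact Opens.mem_iSup.2 ⟨⟨W, hW⟩, hx⟩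
  · haveI : QuasiCompact (f ∣_ W.1.1) :=
      MorphismProperty.of_isPullback (isPullback_morphismRestrict f W.1.1).flip ‹QuasiCompact f›
    exact H17.VeryAmpleOfPn.isRelVeryAmple_of_isRelVeryAmplePn (hN W.1 _ (Finset.le_sup W.2))

theorem exists_open_in_projective {f : X ⟶ S} [CompactSpace S] [QuasiSeparatedSpace S]
    (hf : RelProj.IsQuasiProjective f) :
    ∃ (X' : Scheme.{u}) (j : X ⟶ X') (g : X' ⟶ S), IsOpenImmersion j ∧ RelProj.IsProjective g ∧ j ≫ g = f := by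
  obtain ⟨h1, h2, L, hL⟩ := hf
  obtain ⟨d, hd⟩ := exists_isRelVeryAmple_pow hL
  obtain ⟨E, hE, u, hu⟩ := isRelVeryAmple_iff.1 hd
  obtain ⟨G, v, hGq, hGf, hv⟩ := exists_ft_emb hE hu
  obtain ⟨𝒯, j, hT⟩ := exists_isGrSymAlg G hGq
  obtain ⟨P, p, chart, hP⟩ := exists_isRelProj 𝒯
  obtain ⟨O1, lam, hO⟩ := exists_isRelTwist hP 1
  obtain ⟨r, hr, τ, hτ⟩ := exists_toBundle hGq hT hP hO hv.spans
  haveI : IsImmersion r := isImmersion_of_emb hGq hT hP hO hr hτ hv
  have hgen := H11Sym.isGenDegOne hGq hT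
  have hft := H11Sym.isFTDeg_one hGq hGf hT
  have hproj : RelProj.IsProjective p := ⟨𝒯, P, p, chart, Iso.refl P, hgen, hft, hP, Category.id_comp p⟩
  haveI : IsProper p := isProper_of_isProjective hproj
  haveI : QuasiCompact (r ≫ p) := by rw [hr]; exact h2
  haveI : QuasiCompact r := QuasiCompact.of_comp r p
  refine ⟨r.image, r.toImage, r.imageι ≫ p, inferInstance, ?_, by rw [r.toImage_imageι_assoc, hr]⟩
  have hc : (r.imageι ≫ p) ≫ 𝟙 S = r.imageι ≫ p := Category.comp_id _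
  refine H11Proj.isProjective_of_isClosedImmersion_lift (g := 𝟙 S) (h := r.imageι) hc hproj ?_
  have e : (pullback.lift r.imageι (r.imageι ≫ p) hc.symm : r.image ⟶ pullback p (𝟙 S)) =
      r.imageι ≫ inv (pullback.fst p (𝟙 S)) := by
    rw [IsIso.eq_comp_inv, pullback.lift_fst]
  rw [e]
  infer_instance

end Groth.Agent.H17.OpenInProj
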