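import Groth.Agent.H11Proj.PnGlobal
import Groth.Agent.H11Sym.VeryAmpleLocal
import Groth.Agent.H11Sym.VeryAmpleOps

/-! An immersion into `P^n_Y` gives relative very ampleness. -/

set_option autoImplicit false
set_option linter.style.haveILetI false
noncomputable section
universe u
open CategoryTheory CategoryTheory.Limits AlgebraicGeometry Opposite TopologicalSpace
open Groth.Agent.H11Tilde Groth.Agent.H11Ample Groth.Agent.H11Proj Groth.Agent.H11Sym

namespace Groth.Agent.H17.VeryAmpleOfPn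

variable {X P Y : Scheme.{u}}

theorem isAffineOpen_preimage_of_le_coborder (i : X ⟶ P) [IsImmersion i] {W : P.Opens} (hW : IsAffineOpen W)
    (hle : W ≤ i.coborderRange) : IsAffineOpen (i ⁻¹ᵁ W) ∧ Function.Surjective (i.app W) := by
  have hW' : IsAffineOpen (i.coborderRange.ι ⁻¹ᵁ W) := by
    rw [← i.coborderRange.ι.isAffineOpen_iff_of_isOpenImmersion, Scheme.Hom.image_preimage_eq_opensRange_inf,
      Scheme.Opens.opensRange_ι, inf_eq_right.2 hle]
    exact hW
  have h := (isClosedImmersion_morphismRestrict_iff i.liftCoborder hW').1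
    (MorphismProperty.of_isPullback (isPullback_morphismRestrict i.liftCoborder _).flip inferInstance)
  refine ⟨?_, ?_⟩
  · have e : i ⁻¹ᵁ W = i.liftCoborder ⁻¹ᵁ (i.coborderRange.ι ⁻¹ᵁ W) := by
      rw [← Scheme.Hom.comp_preimage, Scheme.Hom.liftCoborder_ι]
    exact e ▸ h.1
  · haveI : IsIso (i.coborderRange.ι.app W) :=
      Scheme.Hom.isIso_app i.coborderRange.ι W (by rw [Scheme.Opens.opensRange_ι]; exact hle)
    have hs : Function.Surjective (i.coborderRange.ι.app W ≫ i.liftCoborder.app (i.coborderRange.ι ⁻¹ᵁ W)) :=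
      h.2.comp (ConcreteCategory.bijective_of_isIso (i.coborderRange.ι.app W)).2
    suffices key : ∀ (k : X ⟶ P), k = i.liftCoborder ≫ i.coborderRange.ι → Function.Surjective (k.app W) from
      key i i.liftCoborder_ι.symm
    rintro k rfl
    exact hs

theorem isRelVeryAmple_pullback_of_globalVA {p : P ⟶ Y} [QuasiCompact p] [IsSeparated p] {M : P.Modules}
    (hM : PicF.IsInvertible M) {n : ℕ} (v : Fin n → Γ(M, ⊤)) (hv : GlobalVA p v) (i : X ⟶ P) [IsImmersion i]
    [QuasiCompact i] :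
    RelProj.IsRelVeryAmple (i ≫ p) ((Scheme.Modules.pullback i).obj M) := by
  let L := (Scheme.Modules.pullback i).obj M
  let q := i ≫ p
  have hL : PicF.IsInvertible L := H11Ample.isInvertible_pullback i hM
  haveI : L.IsQuasicoherent := H28Mero.isQCoh_of_isInvertible hL
  haveI : QuasiSeparated q := inferInstanceAs (QuasiSeparated (i ≫ p))
  haveI : QuasiCompact q := inferInstanceAs (QuasiCompact (i ≫ p))
  refine isRelVeryAmple_iff.2 ⟨_, H10Coh.isQuasicoherent_pushforward q L, 𝟙 _, fun x => ?_⟩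
  obtain ⟨l, hl⟩ := hv.cover (i x)
  obtain ⟨U, hU, hxU⟩ := H11Ample.exists_isAffineOpen_mem (q x)
  let D := gen M (v l) ⊓ p ⁻¹ᵁ U
  have hD : IsAffineOpen D := hv.affine U hU l
  have hxD : i x ∈ D := ⟨hl, hxU⟩
  obtain ⟨κ, hκle, hxκ⟩ := hD.exists_basicOpen_le (V := i.coborderRange ⊓ D)
    ⟨i x, ⟨subset_coborder ⟨x, rfl⟩, hxD⟩⟩ hxD
  let m : Γ(L, q ⁻¹ᵁ U) := resS L (le_top : q ⁻¹ᵁ U ≤ ⊤) (pullTop i (v l))
  let Gm := gMax (q := q) (𝟙 ((Scheme.Modules.pushforward q).obj L)) hU m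
  have hgen : gen L (pullTop i (v l)) = i ⁻¹ᵁ gen M (v l) := by
    have h := gen_smul_pullSect i hM (v l) (c := 1) isUnit_one
    rwa [one_smul] at h
  have hVD : Gm.V ≤ i ⁻¹ᵁ D := by
    refine fun y hy => ⟨?_, Gm.le hy⟩
    refine hgen.le (mem_gen_of_isGen (W := Gm.V) ?_ hy)
    have h := Gm.gen
    change IsGen L (resS L Gm.le (resS L (le_top : q ⁻¹ᵁ U ≤ ⊤) (pullTop i (v l)))) at h
    rwa [resS_resS] at h
  have hDV : i ⁻¹ᵁ D ≤ Gm.V := by
    refine H11Proj.le_genAt _ (fun y hy => hy.2) ?_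
    show IsGen L (resS L _ (resS L (le_top : q ⁻¹ᵁ U ≤ ⊤) (pullTop i (v l))))
    rw [resS_resS]
    have h := (isGen_gen (pullTop i (v l))).res
      (show i ⁻¹ᵁ D ≤ gen L (pullTop i (v l)) from (i.preimage_mono inf_le_left).trans hgen.ge)
    rw [H10Coh.mres_mres] at h
    exact h
  let φ := (i.appLE D Gm.V hVD).hom
  have hring : ∀ c : Γ(P, D), φ c ∈ Gm.ratioRing := by
    intro c
    refine (Subring.closure_le (t := Gm.ratioRing.comap φ)).2 ?_ ((hv.surj U hU l).ge (Subring.mem_top c))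
    rintro c (⟨r, rfl⟩ | ⟨l', hl'⟩)
    · refine Subring.subset_closure (Or.inl ⟨r, ?_⟩)
      exact (congr($(Scheme.Hom.appLE_comp_appLE i p U D Gm.V inf_le_right hVD) r)).symm
    · refine Gm.mem_ratioRing (resS L (le_top : q ⁻¹ᵁ U ≤ ⊤) (pullTop i (v l'))) ?_
      show _ • resS L _ (resS L (le_top : q ⁻¹ᵁ U ≤ ⊤) (pullTop i (v l))) =
        resS L _ (resS L (le_top : q ⁻¹ᵁ U ≤ ⊤) (pullTop i (v l')))
      rw [resS_resS, resS_resS]
      exact pullSect_smul_eq i M (le_top : D ≤ ⊤) hVD hl'.symm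
  have hpre : X.basicOpen (φ κ) = i ⁻¹ᵁ P.basicOpen κ := by
    show X.basicOpen (i.appLE D Gm.V hVD κ) = _
    rw [Scheme.basicOpen_appLE]
    exact inf_eq_right.2 ((i.preimage_mono (P.basicOpen_le _)).trans hDV)
  obtain ⟨haff, hsur⟩ := isAffineOpen_preimage_of_le_coborder i (hD.basicOpen κ) (hκle.trans inf_le_left)
  refine ⟨⟨U, hU, m, φ κ, hring κ, hpre.ge hxκ, hpre ▸ haff, fun z => ?_⟩⟩
  obtain ⟨w, hw⟩ := hsur (resF hpre.ge z)
  haveI := hD.isLocalization_basicOpen κ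
  obtain ⟨⟨b, ⟨_, N, rfl⟩⟩, hb⟩ := IsLocalization.surj (Submonoid.powers κ) w
  refine ⟨N, φ b, hring b, ?_⟩
  have h := congrArg (fun z => resF hpre.le (i.app (P.basicOpen κ) z)) hb
  have key : ∀ d : Γ(P, D), resF hpre.le (i.app (P.basicOpen κ) (algebraMap Γ(P, D) Γ(P, P.basicOpen κ) d)) =
      resF (X.basicOpen_le (φ κ)) (φ d) := fun d => by
    show resF hpre.le (i.app (P.basicOpen κ) (P.presheaf.map (homOfLE (P.basicOpen_le κ)).op d)) = _
    simp only [resF, φ, Scheme.Hom.app_eq_appLE, ← ConcreteCategory.comp_apply, Scheme.Hom.appLE_map,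
      Scheme.Hom.map_appLE]
  simp only [map_mul, key, map_pow] at h
  rw [hw, resF_resF, resF_self] at h
  exact h

theorem isRelVeryAmple_of_isRelVeryAmplePn {q : X ⟶ Y} [QuasiCompact q] {L : X.Modules}
    (h : RelAmple.IsRelVeryAmplePn q L) : RelProj.IsRelVeryAmple q L := by
  obtain ⟨n, i, hi, hc, ⟨τ⟩⟩ := h
  haveI := hi
  haveI : IsProper (CohB1.ProjSpaceOver.toBase n Y) := H27Weil.isProper_toBase n Y
  have hid : RelAmple.IsRelVeryAmplePn (CohB1.ProjSpaceOver.toBase n Y) (Twist.twistOver n Y 1) :=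
    ⟨n, 𝟙 _, inferInstance, Category.id_comp _, ⟨((Scheme.Modules.pullbackId _).app _).symm⟩⟩
  obtain ⟨k, v, hv⟩ := exists_globalVA_of_isRelVeryAmplePn _ hid
  have hM : PicF.IsInvertible (Twist.twistOver n Y 1) := H11Ample.isInvertible_pullback _ isInvertible_twist
  haveI : QuasiCompact (i ≫ CohB1.ProjSpaceOver.toBase n Y) := by
    rw [show i ≫ CohB1.ProjSpaceOver.toBase n Y = q from hc]; infer_instance
  haveI : QuasiCompact i := QuasiCompact.of_comp i (CohB1.ProjSpaceOver.toBase n Y)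
  have := isRelVeryAmple_pullback_of_globalVA hM v hv i
  rw [show i ≫ CohB1.ProjSpaceOver.toBase n Y = q from hc] at this
  exact isRelVeryAmple_of_iso τ.symm this

end Groth.Agent.H17.VeryAmpleOfPn
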