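import Groth.Agent.H11Sym.VeryAmpleOps
import Groth.Agent.H11Ample.ImmersionPn
import Groth.Agent.H10Coh.FinType

/-! Very ample modules over an affine base come from immersions into `P^n`. -/

set_option autoImplicit false
set_option linter.style.haveILetI false
noncomputable section
universe u
open CategoryTheory CategoryTheory.Limits AlgebraicGeometry Opposite TopologicalSpace CohB1
open Groth.Agent.H11Tilde Groth.Agent.H11Ample Groth.Agent.H11Proj Groth.Agent.H11Sym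

namespace Groth.Agent.H17.VeryAmplePn

variable {X Y : Scheme.{u}} {L : X.Modules}

/-- The functions on `gen L v` obtained from the base and the ratios `w / v`, `w ∈ A`. -/
def rR (q : X ⟶ Y) (v : Γ(L, ⊤)) (A : Set Γ(L, ⊤)) : Subring Γ(X, gen L v) :=
  Subring.closure (Set.range (q.appLE ⊤ (gen L v) le_top) ∪
    {c | ∃ w ∈ A, c • resS L (le_top : gen L v ≤ ⊤) v = resS L le_top w})

theorem rR_mono (q : X ⟶ Y) (v : Γ(L, ⊤)) {A B : Set Γ(L, ⊤)} (h : A ⊆ B) : rR q v A ≤ rR q v B :=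
  Subring.closure_mono (Set.union_subset_union_right _ fun _ ⟨w, hw, e⟩ => ⟨w, h hw, e⟩)

theorem exists_finset_rR (q : X ⟶ Y) (v : Γ(L, ⊤)) (A : Set Γ(L, ⊤)) {c : Γ(X, gen L v)} (hc : c ∈ rR q v A) :
    ∃ B : Finset Γ(L, ⊤), (B : Set Γ(L, ⊤)) ⊆ A ∧ c ∈ rR q v B := by
  classical
  induction hc using Subring.closure_induction with
  | mem x hx =>
    rcases hx with hx | ⟨w, hw, e⟩
    · exact ⟨∅, by simp, Subring.subset_closure (Or.inl hx)⟩
    · exact ⟨{w}, by simpa using hw, Subring.subset_closure (Or.inr ⟨w, by simp, e⟩)⟩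
  | zero => exact ⟨∅, by simp, Subring.zero_mem _⟩
  | one => exact ⟨∅, by simp, Subring.one_mem _⟩
  | neg x _ hx => exact hx.imp fun B h => ⟨h.1, Subring.neg_mem _ h.2⟩
  | add x y _ _ hx hy =>
    obtain ⟨B, hB, h⟩ := hx
    obtain ⟨B', hB', h'⟩ := hy
    exact ⟨B ∪ B', by simp [hB, hB'], Subring.add_mem _ (rR_mono q v (by simp) h) (rR_mono q v (by simp) h')⟩
  | mul x y _ _ hx hy =>
    obtain ⟨B, hB, h⟩ := hx
    obtain ⟨B', hB', h'⟩ := hy
    exact ⟨B ∪ B', by simp [hB, hB'], Subring.mul_mem _ (rR_mono q v (by simp) h) (rR_mono q v (by simp) h')⟩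

theorem isRelVeryAmplePn_of_standard [IsAffine Y] (q : X ⟶ Y) (hL : PicF.IsInvertible L) {n : ℕ}
    (v : Fin (n + 1) → Γ(L, ⊤)) {J : Type u} (j : J → Fin (n + 1)) (t : ∀ a, Γ(X, gen L (v (j a))))
    (ht : ∀ a, t a ∈ rR q (v (j a)) (Set.range v)) (hcov : ∀ x, ∃ a, x ∈ X.basicOpen (t a))
    (haff : ∀ a, IsAffineOpen (X.basicOpen (t a)))
    (hsurj : ∀ a, fracRing (rR q (v (j a)) (Set.range v)) (ht a) = ⊤) :
    RelAmple.IsRelVeryAmplePn q L := by
  obtain ⟨r, -, ⟨τ⟩, hpre, hratio⟩ := exists_toPn (R := ULift.{u} ℤ) (specULiftZIsTerminal.from X) hL v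
    fun x => (hcov x).elim fun a ha => ⟨j a, X.basicOpen_le _ ha⟩
  let p₁ := pullback.fst (ProjSpace.toSpec n (ULift.{u} ℤ)) (specULiftZIsTerminal.from Y)
  let p₂ := pullback.snd (ProjSpace.toSpec n (ULift.{u} ℤ)) (specULiftZIsTerminal.from Y)
  let i : X ⟶ ProjSpaceOver n Y := pullback.lift r q (specULiftZIsTerminal.hom_ext _ _)
  have h₁ : i ≫ p₁ = r := pullback.lift_fst _ _ _
  have h₂ : i ≫ p₂ = q := pullback.lift_snd _ _ _
  let W : J → (ProjSpaceOver n Y).Opens := fun a =>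
    p₁ ⁻¹ᵁ Proj.basicOpen (polyGrading n (ULift.{u} ℤ)) (MvPolynomial.X (j a)) ⊓ p₂ ⁻¹ᵁ ⊤
  have hWpre : ∀ a, i ⁻¹ᵁ W a = gen L (v (j a)) := fun a => by
    have e : i ⁻¹ᵁ W a = r ⁻¹ᵁ Proj.basicOpen (polyGrading n (ULift.{u} ℤ)) (MvPolynomial.X (j a)) ⊓ q ⁻¹ᵁ ⊤ := by
      rw [← h₁, ← h₂]
      rfl
    rw [e, hpre (j a)]
    exact inf_eq_left.2 le_top
  have hWaff : ∀ a, IsAffineOpen (W a) := fun a =>
    isAffineOpen_fst_inf_snd _ _ (isAffineOpen_top _)
      (Proj.isAffineOpen_basicOpen (polyGrading n (ULift.{u} ℤ)) _ (X_mem (j a)) one_pos) le_top (isAffineOpen_top Y) le_top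
  have hlift : ∀ (a : J) (b : Γ(X, gen L (v (j a)))), b ∈ rR q (v (j a)) (Set.range v) →
      ∃ w, i.appLE (W a) (gen L (v (j a))) (hWpre a).ge w = b := by
    intro a b hb
    refine (Subring.closure_le (t := (i.appLE (W a) (gen L (v (j a))) (hWpre a).ge).hom.range)).2 ?_ hb
    rintro c (⟨s, rfl⟩ | ⟨_, ⟨l, rfl⟩, hl⟩)
    · refine ⟨p₂.appLE ⊤ (W a) inf_le_right s, ?_⟩
      have e := Scheme.Hom.appLE_comp_appLE i p₂ ⊤ (W a) (gen L (v (j a))) inf_le_right (hWpre a).ge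
      simp only [h₂] at e
      exact congr($e s)
    · let D := Proj.basicOpen (polyGrading n (ULift.{u} ℤ)) (MvPolynomial.X (j a))
      obtain ⟨ρ, hρ⟩ := hratio (j a) l
      refine ⟨p₁.appLE D (W a) inf_le_left ρ, ?_⟩
      have hle : gen L (v (j a)) ≤ r ⁻¹ᵁ D := (hpre (j a)).ge
      have h3 := congrArg (L.presheaf.map (homOfLE hle).op) hρ
      rw [H10Coh.mres_mres, Scheme.Modules.map_smul, H10Coh.mres_mres] at h3
      have h4 := ((isGen_gen (v (j a))).bijective le_rfl).1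
        (a₁ := c) (a₂ := X.presheaf.map (homOfLE hle).op (r.app D ρ))
        (by beta_reduce; rw [H10Coh.mres_self]; exact hl.trans h3)
      rw [h4]
      have e := Scheme.Hom.appLE_comp_appLE i p₁ D (W a) (gen L (v (j a))) inf_le_left (hWpre a).ge
      simp only [h₁] at e
      refine Eq.trans (congr($e ρ)) ?_
      rfl
  choose κ hκ using fun a => hlift a (t a) (ht a)
  have hpreκ : ∀ a, i ⁻¹ᵁ (ProjSpaceOver n Y).basicOpen (κ a) = X.basicOpen (t a) := fun a => by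
    rw [← hκ a, Scheme.basicOpen_appLE]
    exact (inf_eq_right.2 ((i.preimage_mono ((ProjSpaceOver n Y).basicOpen_le _)).trans (hWpre a).le)).symm
  refine ⟨n, i, ?_, h₂, ⟨τ.symm ≪≫ (Scheme.Modules.pullbackCongr h₁).symm.app _ ≪≫
    ((Scheme.Modules.pullbackComp i p₁).app _).symm⟩⟩
  refine H11Sym.isImmersion_of_local i (fun a => (ProjSpaceOver n Y).basicOpen (κ a))
    (fun x => (hcov x).imp fun a ha => (hpreκ a).ge ha) fun a => ?_
  refine (H11Sym.isClosedImmersion_morphismRestrict_iff i ((hWaff a).basicOpen (κ a))).2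
    ⟨(hpreκ a) ▸ haff a, fun z => ?_⟩
  let i₁ : i ⁻¹ᵁ (ProjSpaceOver n Y).basicOpen (κ a) ≤ X.basicOpen (t a) := (hpreκ a).le
  let i₂ : X.basicOpen (t a) ≤ i ⁻¹ᵁ (ProjSpaceOver n Y).basicOpen (κ a) := (hpreκ a).ge
  obtain ⟨N, c, hc, e⟩ := (hsurj a).ge (Subring.mem_top (resF i₂ z))
  obtain ⟨w, hw⟩ := hlift a c hc
  let P := ProjSpaceOver n Y
  have hkey : ∀ v', i.app _ (P.presheaf.map (homOfLE (P.basicOpen_le (κ a))).op v') =
      resF i₁ (resF (X.basicOpen_le _) (i.appLE _ _ (hWpre a).ge v')) := fun v' => by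
    simp only [resF, Scheme.Hom.app_eq_appLE, ← ConcreteCategory.comp_apply, Scheme.Hom.appLE_map,
      Scheme.Hom.map_appLE]
    rfl
  haveI := (hWaff a).isLocalization_basicOpen (κ a)
  obtain ⟨vu, hvu⟩ : IsUnit (P.presheaf.map (homOfLE (P.basicOpen_le (κ a))).op (κ a ^ N)) :=
    IsLocalization.map_units (M := Submonoid.powers (κ a)) Γ(P, P.basicOpen (κ a)) ⟨_, N, rfl⟩
  refine ⟨P.presheaf.map (homOfLE (P.basicOpen_le (κ a))).op w * ↑vu⁻¹, ?_⟩
  have hu' : i.app _ (↑vu : Γ(P, P.basicOpen (κ a))) = resF i₁ (resF (X.basicOpen_le _) (t a) ^ N) := by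
    rw [hvu, hkey]
    refine (congrArg (fun y => resF i₁ (resF (X.basicOpen_le _) y))
      (map_pow (i.appLE _ _ (hWpre a).ge).hom (κ a) N)).trans ?_
    simp only [map_pow]
    exact congrArg (fun y => resF i₁ (resF (X.basicOpen_le _) y) ^ N) (hκ a)
  have hz : i.app _ (P.presheaf.map (homOfLE (P.basicOpen_le (κ a))).op w) =
      z * i.app _ (↑vu : Γ(P, P.basicOpen (κ a))) := by
    rw [hkey, hw, ← e, map_mul, resF_resF, resF_self, hu']
  rw [map_mul, hz, mul_assoc, ← map_mul, Units.mul_inv, map_one, mul_one]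

variable {q : X ⟶ Y} {E : Y.Modules}

/-- Around a point, sections over the affine base do the job. -/
theorem exists_global_point [IsAffine Y] (hE : Coh.IsQCoh E) (u : E ⟶ (Scheme.Modules.pushforward q).obj L)
    (hL : PicF.IsInvertible L) {x : X} (a : EmbPt u x) :
    ∃ (v : Γ(L, ⊤)) (t : Γ(X, gen L v))
      (ht : t ∈ rR q v (Set.range fun e : Γ(E, ⊤) => (uSec u e : Γ(L, ⊤)))),
      x ∈ X.basicOpen t ∧ IsAffineOpen (X.basicOpen t) ∧
        fracRing (rR q v (Set.range fun e : Γ(E, ⊤) => (uSec u e : Γ(L, ⊤)))) ht = ⊤ := by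
  haveI : E.IsQuasicoherent := hE
  let A : Set Γ(L, ⊤) := Set.range fun e : Γ(E, ⊤) => (uSec u e : Γ(L, ⊤))
  let M := gMax u a.hU a.m
  have hxV : x ∈ M.V := X.basicOpen_le _ a.mem
  obtain ⟨g, hgU, hxg⟩ := (isAffineOpen_top Y).exists_basicOpen_le (V := a.U) ⟨q.base x, M.le hxV⟩ trivial
  let D := Y.basicOpen g
  let g' : Γ(X, ⊤) := q.app ⊤ g
  have hD : q ⁻¹ᵁ D = X.basicOpen g' := Scheme.preimage_basicOpen q g
  have ext : ∀ e : Γ(E, a.U), ∃ (N : ℕ) (e' : Γ(E, ⊤)),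
      E.presheaf.map (homOfLE (Y.basicOpen_le g)).op e' =
        Y.presheaf.map (homOfLE (Y.basicOpen_le g)).op (g ^ N) • E.presheaf.map (homOfLE hgU).op e :=
    fun e => H10Coh.exists_pow_smul_eq_res E (isAffineOpen_top Y) g _
  have extL : ∀ e : Γ(E, a.U), ∃ (N : ℕ) (w : Γ(L, ⊤)), w ∈ A ∧
      resS L (le_top : q ⁻¹ᵁ D ≤ ⊤) w =
        resF (le_top : q ⁻¹ᵁ D ≤ ⊤) g' ^ N • resS L (q.preimage_mono hgU) (uSec u e) := fun e => by
    obtain ⟨N, e', he⟩ := ext e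
    refine ⟨N, uSec u e', ⟨e', rfl⟩, ?_⟩
    have h := congrArg (uSec u) he
    rw [uSec_res, uSec_smul, uSec_res] at h
    refine h.trans ?_
    congr 1
    exact (congr($(q.naturality (homOfLE (Y.basicOpen_le g)).op) (g ^ N))).trans
      ((congrArg (resF (le_top : q ⁻¹ᵁ D ≤ ⊤)) (map_pow (q.app ⊤).hom g N)).trans (map_pow _ _ _))
  obtain ⟨N₀, e₀, he₀⟩ := ext a.m
  let w₀ : Γ(L, ⊤) := uSec u e₀
  let v : Γ(L, ⊤) := g' • w₀
  have hvA : v ∈ A := ⟨g • e₀, uSec_smul u g e₀⟩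
  have hw₀ : resS L (le_top : q ⁻¹ᵁ D ≤ ⊤) w₀ =
      resF (le_top : q ⁻¹ᵁ D ≤ ⊤) g' ^ N₀ • resS L (q.preimage_mono hgU) (uSec u a.m) := by
    have h := congrArg (uSec u) he₀
    rw [uSec_res, uSec_smul, uSec_res] at h
    refine h.trans ?_
    congr 1
    exact (congr($(q.naturality (homOfLE (Y.basicOpen_le g)).op) (g ^ N₀))).trans
      ((congrArg (resF (le_top : q ⁻¹ᵁ D ≤ ⊤)) (map_pow (q.app ⊤).hom g N₀)).trans (map_pow _ _ _))
  let G := gen L v
  have hGD : G ≤ q ⁻¹ᵁ D := hD.symm ▸ gen_smul_le_basicOpen hL g' w₀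
  have hGU : G ≤ q ⁻¹ᵁ a.U := hGD.trans (q.preimage_mono hgU)
  obtain ⟨δ, hδ⟩ : IsUnit (resF (le_top : G ≤ ⊤) g') := by
    have h := (X.toRingedSpace.isUnit_res_basicOpen g').map (resF (hGD.trans hD.le))
    have e := resF_resF (hGD.trans hD.le) (X.basicOpen_le g') g'
    exact e ▸ h
  have hv : resS L (le_top : G ≤ ⊤) v = ((δ : Γ(X, G)) ^ (N₀ + 1)) • resS L hGU (uSec u a.m) := by
    have h := congrArg (resS L hGD) hw₀
    rw [resS_resS, resS_smul, map_pow, resF_resF, resS_resS, ← hδ] at h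
    show resS L le_top (g' • w₀) = _
    rw [resS_smul, ← hδ, h, smul_smul, ← pow_succ']
  have hgen : IsGen L (resS L hGU (uSec u a.m)) := by
    have h := H11Ample.isGen_res (isGen_gen v) (le_refl G) (c := (↑δ⁻¹ : Γ(X, G)) ^ (N₀ + 1))
      ((δ⁻¹).isUnit.pow _)
    rw [H10Coh.mres_self] at h
    rw [show L.presheaf.map (homOfLE (le_top : G ≤ ⊤)).op v = _ from hv, smul_smul, ← mul_pow,
      Units.inv_mul, one_pow, one_smul] at h
    exact h
  have hGV : G ≤ M.V := H11Proj.le_genAt _ hGU hgen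
  have hVG : M.V ⊓ q ⁻¹ᵁ D ≤ G := fun y hy => by
    refine mem_gen_of_isGen (W := M.V ⊓ q ⁻¹ᵁ D) ?_ hy
    have h := congrArg (resS L (inf_le_right : M.V ⊓ q ⁻¹ᵁ D ≤ q ⁻¹ᵁ D)) hw₀
    rw [resS_resS, resS_smul, map_pow, resF_resF, resS_resS] at h
    show IsGen L (resS L le_top (g' • w₀))
    rw [resS_smul, h, smul_smul, ← pow_succ']
    have hu : IsUnit (resF (le_top : M.V ⊓ q ⁻¹ᵁ D ≤ ⊤) g') := by
      have h1 := (X.toRingedSpace.isUnit_res_basicOpen g').map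
        (resF ((inf_le_right : M.V ⊓ q ⁻¹ᵁ D ≤ _).trans hD.le))
      exact (resF_resF ((inf_le_right : M.V ⊓ q ⁻¹ᵁ D ≤ _).trans hD.le) (X.basicOpen_le g') g') ▸ h1
    have h2 := H11Ample.isGen_res M.gen (inf_le_left : M.V ⊓ q ⁻¹ᵁ D ≤ M.V) (hu.pow (N₀ + 1))
    rwa [H10Coh.mres_mres] at h2
  have hδR : (↑δ⁻¹ : Γ(X, G)) ∈ rR q v A :=
    Subring.subset_closure (Or.inr ⟨w₀, ⟨e₀, rfl⟩, by
      show _ • resS L le_top (g' • w₀) = _
      rw [resS_smul, ← hδ, smul_smul, Units.inv_mul, one_smul]⟩)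
  have hδR' : (δ : Γ(X, G)) ∈ rR q v A := by
    refine Subring.subset_closure (Or.inl ⟨g, ?_⟩)
    rw [hδ]
    rfl
  have hmap : ∀ c ∈ M.ratioRing, resF hGV c ∈ rR q v A := by
    intro c hc
    refine (Subring.closure_le (t := (rR q v A).comap (resF hGV))).2 ?_ hc
    rintro c (⟨r, rfl⟩ | ⟨n, hn⟩)
    · -- base functions are fractions of global ones
      haveI := (isAffineOpen_top Y).isLocalization_basicOpen g
      obtain ⟨⟨r', ⟨_, k, rfl⟩⟩, hr⟩ := IsLocalization.surj (Submonoid.powers g)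
        (Y.presheaf.map (homOfLE hgU).op r : Γ(Y, D))
      rw [SetLike.mem_coe, Subring.mem_comap]
      have h := congrArg (q.appLE D G hGD) hr
      rw [map_mul, map_pow, map_pow] at h
      have e1 : resF hGV (q.appLE M.U M.V M.le r) = q.appLE D G hGD (Y.presheaf.map (homOfLE hgU).op r) := by
        simp only [resF, ← ConcreteCategory.comp_apply, Scheme.Hom.appLE_map]
        exact congr($((q.map_appLE hGD (homOfLE hgU).op).symm) r)
      have e2 : ∀ z, q.appLE D G hGD (algebraMap Γ(Y, ⊤) Γ(Y, D) z) = q.appLE ⊤ G le_top z := fun z => by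
        show q.appLE D G hGD (Y.presheaf.map (homOfLE (Y.basicOpen_le g)).op z) = _
        rw [← ConcreteCategory.comp_apply]
        exact congr($(q.map_appLE hGD (homOfLE (Y.basicOpen_le g)).op) z)
      have e3 : q.appLE ⊤ G le_top g = (δ : Γ(X, G)) := by rw [hδ]; rfl
      rw [e2, e2, e3] at h
      rw [e1, show q.appLE D G hGD (Y.presheaf.map (homOfLE hgU).op r) =
        q.appLE ⊤ G le_top r' * (↑δ⁻¹ : Γ(X, G)) ^ k by
          rw [← h, mul_assoc, ← mul_pow, Units.mul_inv, one_pow, mul_one]]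
      exact Subring.mul_mem _ (Subring.subset_closure (Or.inl ⟨r', rfl⟩)) (Subring.pow_mem _ hδR _)
    · obtain ⟨N, w, hw, he⟩ := extL n
      rw [SetLike.mem_coe, Subring.mem_comap]
      have h := congrArg (resS L hGD) he
      rw [resS_resS, resS_smul, map_pow, resF_resF, resS_resS, ← hδ] at h
      have hn' := congrArg (resS L hGV) hn
      rw [resS_smul, resS_resS, resS_resS] at hn'
      have hmem : resF hGV c * (δ : Γ(X, G)) ^ N * (↑δ⁻¹ : Γ(X, G)) ^ (N₀ + 1) ∈ rR q v A := by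
        refine Subring.subset_closure (Or.inr ⟨w, hw, ?_⟩)
        refine Eq.trans ?_ h.symm
        refine Eq.trans ?_ (congrArg (fun z => (δ : Γ(X, G)) ^ N • z) hn')
        rw [hv, smul_smul, smul_smul]
        congr 1
        rw [mul_assoc, ← mul_pow, Units.inv_mul, one_pow, mul_one, mul_comm]
      have hfin : resF hGV c = (resF hGV c * (δ : Γ(X, G)) ^ N * (↑δ⁻¹ : Γ(X, G)) ^ (N₀ + 1)) *
          ((δ : Γ(X, G)) ^ (N₀ + 1) * (↑δ⁻¹ : Γ(X, G)) ^ N) := by
        have e1 : (δ : Γ(X, G)) ^ N * (↑δ⁻¹ : Γ(X, G)) ^ N = 1 := by rw [← mul_pow, Units.mul_inv, one_pow]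
        have e2 : (↑δ⁻¹ : Γ(X, G)) ^ (N₀ + 1) * (δ : Γ(X, G)) ^ (N₀ + 1) = 1 := by
          rw [← mul_pow, Units.inv_mul, one_pow]
        calc resF hGV c = resF hGV c * ((δ : Γ(X, G)) ^ N * (↑δ⁻¹ : Γ(X, G)) ^ N) *
              ((↑δ⁻¹ : Γ(X, G)) ^ (N₀ + 1) * (δ : Γ(X, G)) ^ (N₀ + 1)) := by rw [e1, e2, mul_one, mul_one]
          _ = _ := by ring
      rw [hfin]
      exact Subring.mul_mem _ hmem (Subring.mul_mem _ (Subring.pow_mem _ hδR' _) (Subring.pow_mem _ hδR _))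
  let t : Γ(X, G) := resF hGV a.t
  have ht : t ∈ rR q v A := hmap _ a.ht
  have hTT : X.basicOpen t = X.basicOpen a.t ⊓ q ⁻¹ᵁ D := by
    refine le_antisymm (le_inf ?_ ((X.basicOpen_le _).trans hGD)) ?_
    · show X.basicOpen (resF hGV a.t) ≤ _
      rw [Scheme.basicOpen_res]; exact inf_le_right
    · show _ ≤ X.basicOpen (resF hGV a.t)
      rw [Scheme.basicOpen_res]
      exact le_inf ((inf_le_inf_right _ (X.basicOpen_le _)).trans hVG) inf_le_left
  refine ⟨v, t, ht, hTT.ge ⟨a.mem, hxg⟩, ?_, eq_top_iff.2 fun z _ => ?_⟩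
  · rw [hTT, hD, ← Scheme.basicOpen_res X g' (homOfLE (le_top : X.basicOpen a.t ≤ ⊤)).op]
    exact a.aff.basicOpen _
  · -- clear denominators
    let g₁ : Γ(X, X.basicOpen a.t) := resF le_top g'
    have hg₁ : X.basicOpen g₁ = X.basicOpen t := by
      show X.basicOpen (resF (le_top : X.basicOpen a.t ≤ ⊤) g') = _
      rw [Scheme.basicOpen_res, hTT, hD, inf_comm]
    haveI := a.aff.isLocalization_basicOpen g₁
    obtain ⟨⟨z₀, ⟨_, k, rfl⟩⟩, hz⟩ := IsLocalization.surj (Submonoid.powers g₁) (resF hg₁.le z)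
    obtain ⟨N, b, hb, e⟩ := a.surj z₀
    refine ⟨N, resF hGV b * (↑δ⁻¹ : Γ(X, G)) ^ k, Subring.mul_mem _ (hmap b hb) (Subring.pow_mem _ hδR _), ?_⟩
    have hle : X.basicOpen t ≤ X.basicOpen a.t := hTT.le.trans inf_le_left
    have hz' := congrArg (resF hg₁.ge) hz
    have e' := congrArg (resF hle) e
    have alg : ∀ y, algebraMap Γ(X, X.basicOpen a.t) Γ(X, X.basicOpen g₁) y = resF (X.basicOpen_le g₁) y :=
      fun _ => rfl
    simp only [alg, map_mul, map_pow, resF_resF, resF_self, g₁] at hz'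
    simp only [map_mul, map_pow, resF_resF] at e'
    have hinv : resF (X.basicOpen_le t) (↑δ⁻¹ : Γ(X, G)) * resF ((X.basicOpen_le t).trans le_top) g' = 1 := by
      rw [← resF_resF (X.basicOpen_le t) (le_top : G ≤ ⊤) g', ← map_mul, ← hδ, Units.inv_mul, map_one]
    simp only [map_mul, map_pow, t, resF_resF]
    rw [← e', ← hz']
    have hp := congrArg (fun w => w ^ k) hinv
    simp only [mul_pow, one_pow] at hp
    linear_combination (-(z * resF ((X.basicOpen_le t).trans hGV) a.t ^ N)) * hp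

/-- Very ample over an affine base: immersion into `P^n`. -/
theorem isRelVeryAmplePn_of_isRelVeryAmple [IsAffine Y] (q : X ⟶ Y) [LocallyOfFiniteType q] [QuasiCompact q]
    (hL : PicF.IsInvertible L) (h : RelProj.IsRelVeryAmple q L) : RelAmple.IsRelVeryAmplePn q L := by
  classical
  obtain ⟨E, hE, u, hu⟩ := isRelVeryAmple_iff.1 h
  let A : Set Γ(L, ⊤) := Set.range fun e : Γ(E, ⊤) => (uSec u e : Γ(L, ⊤))
  have key := fun x : X => exists_global_point hE u hL (hu x).some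
  choose v t ht hxt haff hfr using key
  haveI : CompactSpace X := QuasiCompact.compactSpace_of_compactSpace q
  obtain ⟨T, hT⟩ := CompactSpace.elim_nhds_subcover (fun x => (X.basicOpen (t x) : Set X))
    (fun x => (X.basicOpen (t x)).isOpen.mem_nhds (hxt x))
  have hfin : ∀ x : X, ∃ B : Finset Γ(L, ⊤), ∃ htB : t x ∈ rR q (v x) B,
      fracRing (rR q (v x) B) htB = ⊤ := by
    intro x
    let f := (q.appLE ⊤ (X.basicOpen (t x)) le_top).hom
    have hf : f.FiniteType := q.finiteType_appLE (isAffineOpen_top Y) (haff x) le_top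
    obtain ⟨S, hS⟩ := (@Algebra.FiniteType.out Γ(Y, ⊤) Γ(X, X.basicOpen (t x)) _ _ f.toAlgebra hf)
    letI := f.toAlgebra
    choose N a ha e using fun z : S => (hfr x).ge (Subring.mem_top z.1)
    choose Bz hBzA hBz using fun z : S => exists_finset_rR q (v x) A (ha z)
    obtain ⟨Bt, -, hBt⟩ := exists_finset_rR q (v x) A (ht x)
    refine ⟨Bt ∪ Finset.univ.biUnion Bz, rR_mono q (v x) (by simp) hBt, ?_⟩
    rw [eq_top_iff]
    have hS' := congrArg Subalgebra.toSubring hS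
    rw [Algebra.adjoin_eq_ring_closure, Algebra.top_toSubring] at hS'
    rw [← hS', Subring.closure_le]
    rintro c (⟨r, rfl⟩ | hc)
    · refine ⟨0, q.appLE ⊤ (gen L (v x)) le_top r, Subring.subset_closure (Or.inl ⟨r, rfl⟩), ?_⟩
      rw [pow_zero, mul_one]
      show q.appLE ⊤ (X.basicOpen (t x)) le_top r = _
      simp only [resF, ← ConcreteCategory.comp_apply, Scheme.Hom.appLE_map]
    · refine ⟨N ⟨c, hc⟩, a ⟨c, hc⟩, rR_mono q (v x) ?_ (hBz ⟨c, hc⟩), e ⟨c, hc⟩⟩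
      intro w hw
      exact Finset.mem_coe.2 (Finset.mem_union_right _ (Finset.mem_biUnion.2 ⟨⟨c, hc⟩, Finset.mem_univ _, hw⟩))
  choose B htB hB using hfin
  let Sall : Finset Γ(L, ⊤) := T.biUnion B ∪ T.image v
  obtain ⟨n, σ⟩ : ∃ n : ℕ, Nonempty (Option {w // w ∈ Sall} ≃ Fin (n + 1)) :=
    ⟨Fintype.card {w // w ∈ Sall}, ⟨Fintype.equivFinOfCardEq Fintype.card_option⟩⟩
  obtain ⟨σ⟩ := σ
  let V : Fin (n + 1) → Γ(L, ⊤) := fun l => ((σ.symm l).map Subtype.val).getD 0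
  have hV : ∀ (w : Γ(L, ⊤)) (hw : w ∈ Sall), V (σ (some ⟨w, hw⟩)) = w := fun w hw => by simp [V]
  let j : {x // x ∈ T} → Fin (n + 1) := fun x =>
    σ (some ⟨v x.1, Finset.mem_union_right _ (Finset.mem_image_of_mem v x.2)⟩)
  have aux : ∀ (x : {x // x ∈ T}) (w : Γ(L, ⊤)), w = v x.1 →
      ∃ (s : Γ(X, gen L w)) (hs : s ∈ rR q w (Set.range V)),
        X.basicOpen s = X.basicOpen (t x.1) ∧ fracRing (rR q w (Set.range V)) hs = ⊤ := by
    rintro x _ rfl
    have hsub : (B x.1 : Set Γ(L, ⊤)) ⊆ Set.range V := fun w hw =>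
      ⟨σ (some ⟨w, Finset.mem_union_left _ (Finset.mem_biUnion.2 ⟨x.1, x.2, hw⟩)⟩), hV _ _⟩
    refine ⟨t x.1, rR_mono q _ hsub (htB x.1), rfl, eq_top_iff.2 fun z _ => ?_⟩
    obtain ⟨N, a, ha, e⟩ := (hB x.1).ge (Subring.mem_top z)
    exact ⟨N, a, rR_mono q _ hsub ha, e⟩
  choose s hs hbo hfrs using fun x => aux x (V (j x)) (hV _ _)
  refine isRelVeryAmplePn_of_standard q hL V j s hs (fun y => ?_) (fun x => hbo x ▸ haff x.1) hfrs
  obtain ⟨x, hx, hyx⟩ := Set.mem_iUnion₂.1 (hT.ge (Set.mem_univ y))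
  exact ⟨⟨x, hx⟩, (hbo ⟨x, hx⟩).ge hyx⟩

end Groth.Agent.H17.VeryAmplePn
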